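import Cfsg.Agent.SporB.Suz.Sub22.Data
import Cfsg.Agent.SporB.Suz.Rep.Data

set_option autoImplicit false
set_option maxRecDepth 100000

namespace Cfsg.Agent.CosetEnum.Suz.Sub22

theorem slp_ok_0 : allRange (fun i => slp.checkPoint Rep.tbl i) 0 256 = true := by decide +kernel

theorem slp_ok_1 : allRange (fun i => slp.checkPoint Rep.tbl i) 256 256 = true := by decide +kernel

theorem slp_ok_2 : allRange (fun i => slp.checkPoint Rep.tbl i) 512 256 = true := by decide +kernel

theorem slp_ok_3 : allRange (fun i => slp.checkPoint Rep.tbl i) 768 256 = true := by decide +kernel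

theorem slp_ok_4 : allRange (fun i => slp.checkPoint Rep.tbl i) 1024 256 = true := by decide +kernel

theorem slp_ok_5 : allRange (fun i => slp.checkPoint Rep.tbl i) 1280 256 = true := by decide +kernel

theorem slp_ok_6 : allRange (fun i => slp.checkPoint Rep.tbl i) 1536 246 = true := by decide +kernel

theorem slp_ok : ∀ i < 1782, slp.checkPoint Rep.tbl i = true := by
  intro i hi
  rcases Nat.lt_or_ge i 256 with h0 | h0
  · exact allRange_spec slp_ok_0 i (by omega) (by omega)
  rcases Nat.lt_or_ge i 512 with h1 | h1
  · exact allRange_spec slp_ok_1 i (by omega) (by omega)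
  rcases Nat.lt_or_ge i 768 with h2 | h2
  · exact allRange_spec slp_ok_2 i (by omega) (by omega)
  rcases Nat.lt_or_ge i 1024 with h3 | h3
  · exact allRange_spec slp_ok_3 i (by omega) (by omega)
  rcases Nat.lt_or_ge i 1280 with h4 | h4
  · exact allRange_spec slp_ok_4 i (by omega) (by omega)
  rcases Nat.lt_or_ge i 1536 with h5 | h5
  · exact allRange_spec slp_ok_5 i (by omega) (by omega)
  exact allRange_spec slp_ok_6 i (by omega) (by omega)

theorem levels_ok : checkLevels slp Rep.tbl [] levels = true := by decide +kernel

theorem levels_prod : (levels.map Level.size).prod = 19595520 := by decide +kernel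

end Cfsg.Agent.CosetEnum.Suz.Sub22
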